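import Mathlib
import Cfsg.Agent.SPOR.ThU.Nat2

/-!
The module of a split Clifford algebra of rank three.
-/

set_option autoImplicit false
set_option linter.unusedSectionVars false

namespace CL.ThU

open Module Matrix

variable {V : Type*} [AddCommGroup V] [Module (ZMod 2) V]

/-- three commuting hyperbolic pairs -/
structure Hyp (a b : Fin 3 → Module.End (ZMod 2) V) : Prop where
  a2 : ∀ i v, a i (a i v) = 0
  b2 : ∀ i v, b i (b i v) = 0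
  aa : ∀ i j v, a i (a j v) = a j (a i v)
  bb : ∀ i j v, b i (b j v) = b j (b i v)
  ab : ∀ i v, a i (b i v) = b i (a i v) + v
  ab' : ∀ i j v, i ≠ j → a i (b j v) = b j (a i v)

/-- `8 × 8` matrices over `F₂` -/
abbrev M8 : Type := Matrix (Fin 8) (Fin 8) (ZMod 2)

/-- the lowering matrices -/
def Am : Fin 3 → M8 := ![
  !![0, 1, 0, 0, 0, 0, 0, 0; 0, 0, 0, 0, 0, 0, 0, 0; 0, 0, 0, 1, 0, 0, 0, 0; 0, 0, 0, 0, 0, 0, 0, 0;
    0, 0, 0, 0, 0, 1, 0, 0; 0, 0, 0, 0, 0, 0, 0, 0; 0, 0, 0, 0, 0, 0, 0, 1; 0, 0, 0, 0, 0, 0, 0, 0],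
  !![0, 0, 1, 0, 0, 0, 0, 0; 0, 0, 0, 1, 0, 0, 0, 0; 0, 0, 0, 0, 0, 0, 0, 0; 0, 0, 0, 0, 0, 0, 0, 0;
    0, 0, 0, 0, 0, 0, 1, 0; 0, 0, 0, 0, 0, 0, 0, 1; 0, 0, 0, 0, 0, 0, 0, 0; 0, 0, 0, 0, 0, 0, 0, 0],
  !![0, 0, 0, 0, 1, 0, 0, 0; 0, 0, 0, 0, 0, 1, 0, 0; 0, 0, 0, 0, 0, 0, 1, 0; 0, 0, 0, 0, 0, 0, 0, 1;
    0, 0, 0, 0, 0, 0, 0, 0; 0, 0, 0, 0, 0, 0, 0, 0; 0, 0, 0, 0, 0, 0, 0, 0; 0, 0, 0, 0, 0, 0, 0, 0]]

/-- the raising matrices -/
def Bm (i : Fin 3) : M8 := (Am i)ᵀ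

/-- the basis generated by a lowest vector -/
def wv (b : Fin 3 → Module.End (ZMod 2) V) (v : V) : Fin 8 → V :=
  ![v, b 0 v, b 1 v, b 0 (b 1 v), b 2 v, b 0 (b 2 v), b 1 (b 2 v), b 0 (b 1 (b 2 v))]

/-- coordinates -/
def cT (b : Fin 3 → Module.End (ZMod 2) V) (v : V) : (Fin 8 → ZMod 2) →ₗ[ZMod 2] V :=
  Fintype.linearCombination (ZMod 2) (wv b v)

theorem cT_apply (b : Fin 3 → Module.End (ZMod 2) V) (v : V) (u : Fin 8 → ZMod 2) :
    cT b v u = u 0 • v + u 1 • b 0 v + u 2 • b 1 v + u 3 • b 0 (b 1 v) + u 4 • b 2 v +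
      u 5 • b 0 (b 2 v) + u 6 • b 1 (b 2 v) + u 7 • b 0 (b 1 (b 2 v)) := by
  simp only [cT, Fintype.linearCombination_apply, Fin.sum_univ_eight]
  rfl

theorem Am_mulVec (u : Fin 8 → ZMod 2) :
    Am 0 *ᵥ u = ![u 1, 0, u 3, 0, u 5, 0, u 7, 0] ∧ Am 1 *ᵥ u = ![u 2, u 3, 0, 0, u 6, u 7, 0, 0] ∧
      Am 2 *ᵥ u = ![u 4, u 5, u 6, u 7, 0, 0, 0, 0] := by
  refine ⟨?_, ?_, ?_⟩ <;> funext i <;> fin_cases i <;>
    simp [Am, mulVec, dotProduct, Fin.sum_univ_eight]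

theorem Bm_mulVec (u : Fin 8 → ZMod 2) :
    Bm 0 *ᵥ u = ![0, u 0, 0, u 2, 0, u 4, 0, u 6] ∧ Bm 1 *ᵥ u = ![0, 0, u 0, u 1, 0, 0, u 4, u 5] ∧
      Bm 2 *ᵥ u = ![0, 0, 0, 0, u 0, u 1, u 2, u 3] := by
  refine ⟨?_, ?_, ?_⟩ <;> funext i <;> fin_cases i <;>
    simp [Bm, Am, mulVec, dotProduct, Fin.sum_univ_eight]

/-- `f` has matrix `M` in the coordinates `T` -/
def Rep (T : (Fin 8 → ZMod 2) →ₗ[ZMod 2] V) (f : Module.End (ZMod 2) V) (M : M8) : Prop :=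
  ∀ u, f (T u) = T (M *ᵥ u)

theorem Rep.add {T : (Fin 8 → ZMod 2) →ₗ[ZMod 2] V} {f g : Module.End (ZMod 2) V} {M N : M8}
    (h : Rep T f M) (h' : Rep T g N) : Rep T (f + g) (M + N) := fun u => by
  rw [LinearMap.add_apply, h, h', add_mulVec, map_add]

theorem Rep.mul {T : (Fin 8 → ZMod 2) →ₗ[ZMod 2] V} {f g : Module.End (ZMod 2) V} {M N : M8}
    (h : Rep T f M) (h' : Rep T g N) : Rep T (f * g) (M * N) := fun u => by
  rw [Module.End.mul_apply, h', h, mulVec_mulVec]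

theorem Rep.scal (T : (Fin 8 → ZMod 2) →ₗ[ZMod 2] V) (c : ZMod 2) : Rep T (c • 1) (c • 1) :=
  fun u => by simp [smul_mulVec]

namespace Hyp

variable {a b : Fin 3 → Module.End (ZMod 2) V} (h : Hyp a b)
include h

theorem exists_low [Nontrivial V] : ∃ v, v ≠ 0 ∧ ∀ i, a i v = 0 := by
  have step : ∀ (i : Fin 3) (v : V), v ≠ 0 →
      ∃ w, w ≠ 0 ∧ a i w = 0 ∧ ∀ j, a j v = 0 → a j w = 0 := fun i v hv => by
    by_cases e : a i v = 0
    · exact ⟨v, hv, e, fun _ => id⟩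
    · exact ⟨a i v, e, h.a2 i v, fun j hj => by rw [h.aa, hj, map_zero]⟩
  obtain ⟨v, hv⟩ := exists_ne (0 : V)
  obtain ⟨v0, h0, a0, -⟩ := step 0 v hv
  obtain ⟨v1, h1, a1, k1⟩ := step 1 v0 h0
  obtain ⟨v2, h2, a2, k2⟩ := step 2 v1 h1
  refine ⟨v2, h2, fun i => ?_⟩
  fin_cases i
  exacts [k2 _ (k1 _ a0), k2 _ a1, a2]

variable {v : V} (hv : ∀ i, a i v = 0)
include hv

theorem rep_a (i : Fin 3) : Rep (cT b v) (a i) (Am i) := fun u => by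
  fin_cases i <;>
    simp (disch := decide) [cT_apply, Am_mulVec, h.ab, h.ab', hv]

theorem rep_b (i : Fin 3) : Rep (cT b v) (b i) (Bm i) := fun u => by
  have e1 := h.bb 1 0
  have e2 := h.bb 2 0
  have e3 := h.bb 2 1
  fin_cases i <;> simp [cT_apply, Bm_mulVec, h.b2, e1, e2, e3]

theorem low_inj (h0 : v ≠ 0) : Function.Injective (cT b v) := by
  refine (injective_iff_map_eq_zero _).2 fun u hu => ?_
  have k : ∀ (f : Module.End (ZMod 2) V) (M : M8), Rep (cT b v) f M → (M *ᵥ u) 0 = 0 := by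
    intro f M hf
    have := (((h.rep_a hv 0).mul (h.rep_b hv 0)).mul (((h.rep_a hv 1).mul (h.rep_b hv 1)).mul
      (((h.rep_a hv 2).mul (h.rep_b hv 2)).mul hf))) u
    rw [hu, map_zero] at this
    simp only [← mulVec_mulVec] at this
    generalize M *ᵥ u = u' at this ⊢
    simpa [Am_mulVec, Bm_mulVec, cT_apply, h0] using this.symm
  have a0 := h.rep_a hv 0
  have a1 := h.rep_a hv 1
  have a2 := h.rep_a hv 2
  have k0 := k _ _ (Rep.scal _ 1)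
  have k1 := k _ _ a0
  have k2 := k _ _ a1
  have k3 := k _ _ (a0.mul a1)
  have k4 := k _ _ a2
  have k5 := k _ _ (a0.mul a2)
  have k6 := k _ _ (a1.mul a2)
  have k7 := k _ _ (a0.mul (a1.mul a2))
  simp [← mulVec_mulVec, Am_mulVec] at k0 k1 k2 k3 k4 k5 k6 k7
  funext i
  fin_cases i <;> assumption

theorem low_bij (h0 : v ≠ 0) (hc : Nat.card V = 256) : Function.Bijective (cT b v) := by
  have : Finite V := Nat.finite_of_card_ne_zero (by rw [hc]; norm_num)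
  exact (Nat.bijective_iff_injective_and_card _).2 ⟨h.low_inj hv h0, by simp [hc]⟩

theorem scalar (hb : Function.Bijective (cT b v)) {D : Module.End (ZMod 2) V}
    (ha : ∀ i w, D (a i w) = a i (D w)) (hb' : ∀ i w, D (b i w) = b i (D w)) :
    ∃ c : ZMod 2, D = c • 1 := by
  obtain ⟨u, hu⟩ := hb.2 (D v)
  have k : ∀ i, Am i *ᵥ u = 0 := fun i => hb.1 (by
    rw [← h.rep_a hv, hu, ← ha, hv, map_zero, map_zero])
  have k0 := k 0
  have k1 := k 1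
  have k2 := k 2
  simp [Am_mulVec] at k0 k1 k2
  have e : D v = u 0 • v := by rw [← hu, cT_apply]; simp [k0, k1, k2]
  refine ⟨u 0, LinearMap.ext fun w => ?_⟩
  obtain ⟨w, rfl⟩ := hb.2 w
  simp only [cT_apply, map_add, map_smul, hb', e, LinearMap.smul_apply, Module.End.one_apply]

theorem form (h0 : v ≠ 0) (hb : Function.Bijective (cT b v)) {B : V →+ V →+ ZMod 2}
    (alt : ∀ v, B v v = 0) (nd : ∀ v, (∀ w, B v w = 0) → v = 0)
    (sa : ∀ i x y, B (a i x) y = B x (a i y)) (sb : ∀ i x y, B (b i x) y = B x (b i y))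
    (u w : Fin 8 → ZMod 2) : B (cT b v u) (cT b v w) = ∑ i, u i * w i.rev := by
  have k : ∀ i y, B v (a i y) = 0 := fun i y => by rw [← sa, hv, map_zero, AddMonoidHom.zero_apply]
  have B_smul' : ∀ (c : ZMod 2) (x y : V), B x (c • y) = c * B x y := fun c x y => by
    rcases z2_cases c with rfl | rfl <;> simp
  have e : ∀ w, B v (cT b v w) = w 7 * B v (b 0 (b 1 (b 2 v))) := fun w => by
    have k1 := k 1 (b 0 (b 1 v))
    have k2 := k 0 (b 0 (b 1 v))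
    have k3 := k 2 (b 0 (b 1 (b 2 v)))
    have k4 := k 0 (b 0 (b 2 v))
    have k5 := k 1 (b 0 (b 1 (b 2 v)))
    have k6 := k 0 (b 0 (b 1 (b 2 v)))
    simp (disch := decide) [h.ab, h.ab', hv] at k1 k2 k3 k4 k5 k6
    simp [cT_apply, B_smul', alt, k1, k2, k3, k4, k5, k6]
  have e1 : B v (b 0 (b 1 (b 2 v))) = 1 := z2_ne.1 fun e1 => h0 (nd v fun y => by
    obtain ⟨y, rfl⟩ := hb.2 y
    rw [e, e1, mul_zero])
  have r0 := h.rep_b hv 0
  have r1 := h.rep_b hv 1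
  have r2 := h.rep_b hv 2
  unfold Rep at r0 r1 r2
  rw [cT_apply b v u]
  simp only [map_add, AddMonoidHom.add_apply, B_smul, sb, r0, r1, r2, e, e1, Fin.sum_univ_eight,
    Bm_mulVec]
  simp

end Hyp

end CL.ThU
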