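import Mathlib
import Cfsg.Agent.SPOR.ThU.Clif
import Cfsg.Agent.KSG.AltPres

/-!
The spin modules of `A₉`: coordinates.
-/

set_option autoImplicit false
set_option linter.unusedSectionVars false

namespace CL.ThU

open Module Matrix

variable {V : Type*} [AddCommGroup V] [Module (ZMod 2) V] {ρ : A9 →* Module.End (ZMod 2) V}
  {qf : V → ZMod 2} {B : V →+ V →+ ZMod 2}

/-- the Carmichael generators -/
def gn (i : Fin 7) : A9 := CL.AltPres.gen i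

theorem gn_three (i : Fin 7) : (gn i).1.IsThreeCycle := CL.AltPres.genP_isThreeCycle i

theorem gn_cube (i : Fin 7) : gn i * gn i * gn i = 1 := by
  rw [← pow_three']; exact CL.AltPres.gen_pow_three i

theorem gn_sq {i j : Fin 7} (h : i ≠ j) : gn i * gn j * (gn i * gn j) = 1 := by
  rw [← sq]; exact CL.AltPres.gen_mul_gen_sq h

theorem gn_closure : Subgroup.closure (Set.range gn) = ⊤ := CL.AltPres.closure_gen 7

theorem three_cube {x : A9} (hx : x.1.IsThreeCycle) : x * x * x = 1 := by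
  have := pow_orderOf_eq_one x.1
  rw [hx.orderOf] at this
  rw [← pow_three']
  exact Subtype.ext this

theorem fpf_three (hS : Cx ρ x1 = ⊥) {x : A9} (hx : x.1.IsThreeCycle) {v : V} (h : ρ x v = v) :
    v = 0 := by
  obtain ⟨σ, rfl⟩ := exists_conj_cyc hx
  rw [← ρ_inv' ρ σ v, ρ_conj] at h
  have : ρ σ⁻¹ v ∈ Cx ρ x1 := mem_Cx.2 (ρ_inj ρ σ h)
  rw [hS, Submodule.mem_bot] at this
  rw [← ρ_inv' ρ σ v, this, map_zero]

theorem mem_Ux_three (hS : Cx ρ x1 = ⊥) {x : A9} (hx : x.1.IsThreeCycle) (v : V) : v ∈ Ux ρ x := by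
  have h3 := three_cube hx
  exact mem_Ux.2 (fpf_three hS hx (mem_Cx.1 (tr_mem_Cx h3 v)))

theorem three_sq (hS : Cx ρ x1 = ⊥) {x : A9} (hx : x.1.IsThreeCycle) : ρ x * ρ x = ρ x + 1 :=
  LinearMap.ext fun v => by
    have := add_eq_zero'.1 (mem_Ux.1 (mem_Ux_three hS hx v))
    rw [Module.End.mul_apply, ← this, add_comm]; rfl

theorem three_inv (hS : Cx ρ x1 = ⊥) {x : A9} (hx : x.1.IsThreeCycle) : ρ x⁻¹ = ρ x + 1 := by
  have h3 := three_cube hx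
  rw [inv_eq_of_mul_eq_one_left h3, map_mul, three_sq hS hx]

theorem gn_comm (hS : Cx ρ x1 = ⊥) {i j : Fin 7} (h : i ≠ j) :
    ρ (gn j) * ρ (gn i) = ρ (gn i) * ρ (gn j) + ρ (gn i) + ρ (gn j) + 1 := by
  have e : gn j * gn i = (gn i)⁻¹ * (gn j)⁻¹ := by
    rw [← _root_.mul_inv_rev]; exact (inv_eq_of_mul_eq_one_left (gn_sq h.symm)).symm
  rw [← map_mul, e, map_mul, three_inv hS (gn_three i), three_inv hS (gn_three j)]
  noncomm_ring

/-- the Clifford generators -/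
def Yc (ρ : A9 →* Module.End (ZMod 2) V) (i : Fin 6) : Module.End (ZMod 2) V :=
  ρ (gn i.succ) + ρ (gn 0)

/-- lowering operators -/
def ac (ρ : A9 →* Module.End (ZMod 2) V) : Fin 3 → Module.End (ZMod 2) V :=
  ![Yc ρ 0 + Yc ρ 1 + Yc ρ 2, Yc ρ 0 + Yc ρ 1 + Yc ρ 3 + Yc ρ 4, Yc ρ 0 + Yc ρ 2 + Yc ρ 4 + Yc ρ 5]

/-- raising operators -/
def bc (ρ : A9 →* Module.End (ZMod 2) V) : Fin 3 → Module.End (ZMod 2) V :=
  ![Yc ρ 3 + Yc ρ 4 + Yc ρ 5, Yc ρ 0 + Yc ρ 1 + Yc ρ 3 + Yc ρ 5, Yc ρ 1 + Yc ρ 2 + Yc ρ 4 + Yc ρ 5]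

theorem c2 {M : Type*} [AddCommGroup M] [Module (ZMod 2) M] {x y : M}
    (h : (1 : ZMod 2) • x = y) : x = y := (one_smul _ _).symm.trans h

section rel

variable (hS : Cx ρ x1 = ⊥)
include hS

theorem Yc_sq (i : Fin 6) : Yc ρ i * Yc ρ i = 1 := by
  simp only [Yc, add_mul, mul_add, three_sq hS (gn_three _), gn_comm hS (Fin.succ_ne_zero i).symm]
  apply c2; match_scalars <;> decide

theorem Yc_comm {i j : Fin 6} (h : i < j) : Yc ρ j * Yc ρ i = Yc ρ i * Yc ρ j + 1 := by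
  simp only [Yc, add_mul, mul_add, three_sq hS (gn_three _), gn_comm hS (Fin.succ_ne_zero i).symm,
    gn_comm hS (Fin.succ_ne_zero j).symm, gn_comm hS ((Fin.succ_injective _).ne h.ne)]
  apply c2; match_scalars <;> decide

theorem X_Yc (i : Fin 6) : ρ (gn 0) * Yc ρ i = Yc ρ i * ρ (gn 0) + Yc ρ i + 1 := by
  simp only [Yc, add_mul, mul_add, three_sq hS (gn_three _), gn_comm hS (Fin.succ_ne_zero i).symm]
  apply c2; match_scalars <;> decide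

theorem hyp_rel : (∀ i, ac ρ i * ac ρ i = 0) ∧ (∀ i, bc ρ i * bc ρ i = 0) ∧
    (∀ i j, ac ρ i * ac ρ j = ac ρ j * ac ρ i) ∧ (∀ i j, bc ρ i * bc ρ j = bc ρ j * bc ρ i) ∧
    (∀ i j, ac ρ i * bc ρ j = bc ρ j * ac ρ i + if i = j then 1 else 0) := by
  refine ⟨fun i => ?_, fun i => ?_, fun i j => ?_, fun i j => ?_, fun i j => ?_⟩ <;>
    fin_cases i <;> (try fin_cases j) <;>
    simp (disch := decide) only [ac, bc, Fin.zero_eta, Fin.mk_one, Fin.reduceFinMk, cons_val_zero,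
      cons_val_one, cons_val, add_mul, mul_add, Yc_sq hS, Yc_comm hS, Fin.reduceEq, if_true,
      if_false] <;>
    (apply c2; match_scalars <;> decide)

theorem hyp_c : Hyp (ac ρ) (bc ρ) := by
  obtain ⟨h1, h2, h3, h4, h5⟩ := hyp_rel hS
  refine ⟨fun i v => LinearMap.congr_fun (h1 i) v, fun i v => LinearMap.congr_fun (h2 i) v,
    fun i j v => LinearMap.congr_fun (h3 i j) v, fun i j v => LinearMap.congr_fun (h4 i j) v,
    fun i v => ?_, fun i j v hij => ?_⟩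
  · simpa using LinearMap.congr_fun (h5 i i) v
  · simpa [hij] using LinearMap.congr_fun (h5 i j) v

theorem X_ab (i : Fin 3) :
    ρ (gn 0) * ac ρ i = ac ρ i * ρ (gn 0) + ac ρ i + (if i = 0 then 1 else 0) ∧
      ρ (gn 0) * bc ρ i = bc ρ i * ρ (gn 0) + bc ρ i + (if i = 0 then 1 else 0) := by
  constructor <;> fin_cases i <;>
    simp only [ac, bc, Fin.zero_eta, Fin.mk_one, Fin.reduceFinMk, cons_val_zero,
      cons_val_one, cons_val, add_mul, mul_add, X_Yc hS, Fin.reduceEq, if_true, if_false] <;>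
    (apply c2; match_scalars <;> decide)

end rel

/-- the matrices of the generators -/
def Mx : Fin 7 → M8 := ![
  !![1, 1, 0, 0, 0, 0, 0, 0; 1, 0, 0, 0, 0, 0, 0, 0; 0, 0, 0, 1, 0, 0, 0, 0; 0, 0, 1, 1, 0, 0, 0, 0;
    0, 0, 0, 0, 0, 1, 0, 0; 0, 0, 0, 0, 1, 1, 0, 0; 0, 0, 0, 0, 0, 0, 1, 1; 0, 0, 0, 0, 0, 0, 1, 0],
  !![1, 0, 1, 0, 0, 0, 0, 0; 1, 0, 0, 1, 0, 0, 0, 0; 1, 0, 0, 0, 0, 0, 0, 0; 0, 1, 1, 1, 0, 0, 0, 0;
    1, 0, 0, 0, 0, 0, 1, 0; 0, 1, 0, 0, 1, 1, 0, 1; 0, 0, 1, 0, 1, 0, 1, 0; 0, 0, 0, 1, 0, 1, 1, 0],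
  !![1, 0, 1, 0, 1, 0, 0, 0; 1, 0, 0, 1, 0, 1, 0, 0; 1, 0, 0, 0, 0, 0, 1, 0; 0, 1, 1, 1, 0, 0, 0, 1;
    0, 0, 0, 0, 0, 0, 1, 0; 0, 0, 0, 0, 1, 1, 0, 1; 0, 0, 0, 0, 1, 0, 1, 0; 0, 0, 0, 0, 0, 1, 1, 0],
  !![1, 0, 0, 0, 1, 0, 0, 0; 1, 0, 0, 0, 0, 1, 0, 0; 0, 0, 0, 0, 0, 0, 1, 0; 0, 0, 1, 1, 0, 0, 0, 1;
    1, 0, 0, 0, 0, 0, 0, 0; 0, 1, 0, 0, 1, 1, 0, 0; 0, 0, 1, 0, 0, 0, 1, 0; 0, 0, 0, 1, 0, 0, 1, 0],
  !![1, 1, 1, 0, 0, 0, 0, 0; 0, 0, 0, 1, 0, 0, 0, 0; 1, 0, 0, 1, 0, 0, 0, 0; 0, 1, 0, 1, 0, 0, 0, 0;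
    0, 0, 0, 0, 0, 1, 1, 0; 0, 0, 0, 0, 0, 1, 0, 1; 0, 0, 0, 0, 1, 0, 1, 1; 0, 0, 0, 0, 0, 1, 0, 0],
  !![1, 1, 0, 0, 1, 0, 0, 0; 0, 0, 0, 0, 0, 1, 0, 0; 1, 0, 0, 1, 0, 0, 1, 0; 0, 1, 0, 1, 0, 0, 0, 1;
    1, 0, 0, 0, 0, 1, 0, 0; 0, 1, 0, 0, 0, 1, 0, 0; 0, 0, 1, 0, 1, 0, 1, 1; 0, 0, 0, 1, 0, 1, 0, 0],
  !![1, 1, 1, 0, 1, 0, 0, 0; 0, 0, 0, 1, 0, 1, 0, 0; 0, 0, 0, 1, 0, 0, 1, 0; 0, 0, 0, 1, 0, 0, 0, 1;
    1, 0, 0, 0, 0, 1, 1, 0; 0, 1, 0, 0, 0, 1, 0, 1; 0, 0, 1, 0, 0, 0, 1, 1; 0, 0, 0, 1, 0, 0, 0, 0]]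

theorem Rep.congr {T : (Fin 8 → ZMod 2) →ₗ[ZMod 2] V} {f g : Module.End (ZMod 2) V} {M N : M8}
    (h : Rep T f M) (e : g = f) (e' : N = M) : Rep T g N := e ▸ e' ▸ h

theorem Lin.Yc_adj (h : Lin ρ qf B) (hS : Cx ρ x1 = ⊥) (i : Fin 6) (x y : V) :
    B (Yc ρ i x) y = B x (Yc ρ i y) := by
  have k : ∀ j, B (ρ (gn j) x) y = B x (ρ (gn j) y) + B x y := fun j => by
    rw [← h.binv (gn j)⁻¹, ρ_inv, three_inv hS (gn_three j)]; simp
  simp only [Yc, LinearMap.add_apply, map_add, AddMonoidHom.add_apply, k]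
  rw [add_add_add_comm, z2_add_self, add_zero]

theorem Lin.coord (h : Lin ρ qf B) (hS : Cx ρ x1 = ⊥) :
    ∃ (c : ZMod 2) (T : (Fin 8 → ZMod 2) →ₗ[ZMod 2] V), Function.Bijective T ∧
      (∀ i, Rep T (ρ (gn i)) (Mx i + c • 1)) ∧ ∀ u w, B (T u) (T w) = ∑ i, u i * w i.rev := by
  have H := hyp_c hS
  have := h.finite
  have : Nontrivial V := Finite.one_lt_card_iff_nontrivial.1 (by rw [h.card]; norm_num)
  obtain ⟨v, h0, hv⟩ := H.exists_low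
  have hb := H.low_bij hv h0 h.card
  obtain ⟨c, hc⟩ := H.scalar hv hb (D := ρ (gn 0) + (ac ρ 0 * bc ρ 0 + ac ρ 1 * bc ρ 1 +
    ac ρ 2 * bc ρ 2 + ac ρ 0 + bc ρ 0)) (fun i w => by
      have e := LinearMap.congr_fun (X_ab hS i).1 w
      have e1 := H.aa 1 0
      have e2 := H.aa 2 0
      have e3 := H.aa 2 1
      simp only [LinearMap.add_apply, Module.End.mul_apply] at e
      simp only [LinearMap.add_apply, Module.End.mul_apply, map_add, e]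
      fin_cases i <;>
        simp (disch := decide) [H.ab, H.ab', H.a2, e1, e2, e3] <;>
        (apply c2; match_scalars <;> decide)) (fun i w => by
      have e := LinearMap.congr_fun (X_ab hS i).2 w
      have e1 := H.bb 1 0
      have e2 := H.bb 2 0
      have e3 := H.bb 2 1
      simp only [LinearMap.add_apply, Module.End.mul_apply] at e
      simp only [LinearMap.add_apply, Module.End.mul_apply, map_add, e]
      fin_cases i <;>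
        simp (disch := decide) [H.ab, H.ab', H.b2, e1, e2, e3] <;>
        (apply c2; match_scalars <;> decide))
  have a0 := H.rep_a hv 0
  have a1 := H.rep_a hv 1
  have a2 := H.rep_a hv 2
  have b0 := H.rep_b hv 0
  have b1 := H.rep_b hv 1
  have b2 := H.rep_b hv 2
  have r0 : Rep (cT (bc ρ) v) (ρ (gn 0)) (Mx 0 + c • 1) :=
    ((((((a0.mul b0).add (a1.mul b1)).add (a2.mul b2)).add a0).add b0).add (Rep.scal _ c)).congr
      (by rw [← hc, add_comm (ρ (gn 0)), add_add_cancel]) (by congr 1; decide +kernel)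
  have key : ∀ (i : Fin 6) (f : Module.End (ZMod 2) V) (M : M8), Rep (cT (bc ρ) v) f M →
      Yc ρ i = f → Mx i.succ = M + Mx 0 → Rep (cT (bc ρ) v) (ρ (gn i.succ)) (Mx i.succ + c • 1) :=
    fun i f M hf e e' => (hf.add r0).congr (by rw [← e, Yc, add_assoc, add_self, add_zero])
      (by rw [e', add_assoc])
  refine ⟨c, _, hb, fun i => ?_, H.form hv h0 hb h.alt h.nondeg (fun i x y => ?_) fun i x y => ?_⟩
  · fin_cases i
    · exact r0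
    · exact key 0 _ _ (((a0.add a1).add b1).add b2)
        (by simp [ac, bc]; apply c2; match_scalars <;> decide) (by decide +kernel)
    · exact key 1 _ _ (((a0.add a1).add b1).add a2)
        (by simp [ac, bc]; apply c2; match_scalars <;> decide) (by decide +kernel)
    · exact key 2 _ _ ((a0.add a2).add b2)
        (by simp [ac, bc]; apply c2; match_scalars <;> decide) (by decide +kernel)
    · exact key 3 _ _ ((b0.add a1).add b1)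
        (by simp [ac, bc]; apply c2; match_scalars <;> decide) (by decide +kernel)
    · exact key 4 _ _ (((b0.add b1).add a2).add b2)
        (by simp [ac, bc]; apply c2; match_scalars <;> decide) (by decide +kernel)
    · exact key 5 _ _ (((b0.add a1).add a2).add b2)
        (by simp [ac, bc]; apply c2; match_scalars <;> decide) (by decide +kernel)
  · fin_cases i <;> simp [ac, h.Yc_adj hS]
  · fin_cases i <;> simp [bc, h.Yc_adj hS]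

theorem Lin.q_three (h : Lin ρ qf B) (hS : Cx ρ x1 = ⊥) (i : Fin 7) (v : V) :
    qf v = B v (ρ (gn i) v) := h.q_eq (mem_Ux_three hS (gn_three i) v)

theorem free_of_inverts (hS : Cx ρ x1 = ⊥) {t x : A9} (hx : x.1.IsThreeCycle)
    (e : t * x = x * x * t) : Free ρ t := fun v hv => ⟨ρ x v, by
  have := add_eq_zero'.1 (mem_Ux.1 (mem_Ux_three hS hx v))
  rw [← ρ_mul, e, ρ_mul, ρ_mul, hv, ← this, add_assoc, add_self, add_zero]⟩

theorem spin_free (hS : Cx ρ x1 = ⊥) {t : A9} (h : t * t = 1) (h1 : t ≠ 1) : Free ρ t := by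
  have c := cyc_three (a := 0) (b := 1) (c := 8) (by decide) (by decide) (by decide)
  rcases inv_cases h h1 with e | e
  · obtain ⟨σ, rfl⟩ := conj_i2 e
    exact (free_of_inverts hS c (by decide +kernel)).conj σ
  · obtain ⟨σ, rfl⟩ := conj_i4 e
    exact (free_of_inverts hS c (by decide +kernel)).conj σ

theorem Lin.spin_ctyp (h : Lin ρ qf B) (hS : Cx ρ x1 = ⊥) {t : A9}
    (ht : t.1.cycleType = {2, 2, 2, 2}) : Ctyp ρ qf t := by
  obtain ⟨c, T, -, r, hB⟩ := h.coord hS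
  have R := (((r 0).mul (r 1)).mul ((r 2).mul (r 3))).mul (((r 0).mul (r 1)).mul ((r 4).mul (r 5)))
  simp only [← map_mul] at R
  have e : Ctyp ρ qf (gn 0 * gn 1 * (gn 2 * gn 3) * (gn 0 * gn 1 * (gn 4 * gn 5))) := by
    refine ⟨T (Pi.single 7 1), ?_⟩
    rw [h.polar, h.qinv, z2_add_self, zero_add, R, hB, Finset.sum_eq_single 0 (fun i _ hi => by
      rw [Pi.single_eq_of_ne (by revert i; decide), mul_zero]) (by simp), mulVec_single_one]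
    rcases z2_cases c with rfl | rfl <;> decide +kernel
  obtain ⟨σ, e1⟩ := conj_i4 (g := gn 0 * gn 1 * (gn 2 * gn 3) * (gn 0 * gn 1 * (gn 4 * gn 5)))
    (by decide +kernel)
  obtain ⟨τ, rfl⟩ := conj_i4 ht
  have := e.conj h (τ * σ⁻¹)
  rwa [e1, show τ * σ⁻¹ * (σ * i4 * σ⁻¹) * (τ * σ⁻¹)⁻¹ = τ * i4 * τ⁻¹ by group] at this

theorem Lin.spin_five (h : Lin ρ qf B) (hS : Cx ρ x1 = ⊥) (σ : A9) {v : V}
    (hv : ρ (σ * c5 * σ⁻¹) v = v) : v = 0 := by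
  obtain ⟨c, T, hT, r, -⟩ := h.coord hS
  have R := (((r 0).mul (r 1)).mul (r 2)).add (Rep.scal T 1)
  simp only [← map_mul] at R
  have e : ∀ v, ρ (gn 0 * gn 1 * gn 2) v = v → v = 0 := fun v hv => by
    obtain ⟨u, rfl⟩ := hT.2 v
    have e1 := R u
    rw [LinearMap.add_apply, hv, one_smul, Module.End.one_apply, add_self, ← map_zero T] at e1
    obtain ⟨N, hN⟩ : ∃ N : M8,
        N * ((Mx 0 + c • 1) * (Mx 1 + c • 1) * (Mx 2 + c • 1) + (1 : ZMod 2) • 1) = 1 := by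
      rcases z2_cases c with rfl | rfl
      · exact ⟨!![1, 0, 1, 1, 1, 0, 1, 0; 1, 1, 1, 0, 1, 0, 0, 1; 0, 1, 0, 1, 1, 0, 0, 0;
          1, 1, 1, 0, 0, 1, 1, 1; 0, 1, 1, 0, 1, 1, 0, 1; 0, 0, 0, 1, 1, 1, 1, 1;
          1, 0, 0, 1, 1, 1, 0, 0; 0, 1, 0, 0, 1, 0, 1, 0], by decide +kernel⟩
      · exact ⟨!![0, 1, 0, 1, 0, 0, 1, 0; 1, 0, 1, 1, 1, 1, 0, 1; 1, 1, 1, 0, 1, 0, 1, 0;
          1, 0, 1, 1, 0, 1, 1, 0; 0, 1, 1, 0, 0, 0, 1, 1; 0, 0, 0, 1, 1, 0, 1, 0;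
          1, 0, 0, 1, 0, 1, 1, 1; 0, 1, 0, 0, 1, 1, 1, 1], by decide +kernel⟩
    rw [← one_mulVec u, ← hN, ← mulVec_mulVec, ← hT.1 e1, mulVec_zero, map_zero]
  have k : c5 = ss 0 6 1 8 * ss 2 5 3 7 * (gn 0 * gn 1 * gn 2) * (ss 0 6 1 8 * ss 2 5 3 7)⁻¹ := by decide +kernel
  rw [k, ← ρ_inv' ρ σ v, ρ_conj, ← ρ_inv' ρ (ss 0 6 1 8 * ss 2 5 3 7) (ρ σ⁻¹ v), ρ_conj] at hv
  rw [← ρ_inv' ρ σ v, ← ρ_inv' ρ (ss 0 6 1 8 * ss 2 5 3 7) (ρ σ⁻¹ v), e _ (ρ_inj ρ _ (ρ_inj ρ _ hv)), map_zero, map_zero]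

/-- conjugation by a transposition -/
def tw : A9 ≃* A9 := MulAut.conjNormal (Equiv.swap (0 : Fin 9) 1)

theorem tw_gn (i : Fin 7) : tw (gn i) = (gn i)⁻¹ := by revert i; decide +kernel

theorem spin_iso (h : Lin ρ qf B) (hS : Cx ρ x1 = ⊥) {V' : Type*} [AddCommGroup V']
    [Module (ZMod 2) V'] {ρ' : A9 →* Module.End (ZMod 2) V'} {qf' : V' → ZMod 2}
    {B' : V' →+ V' →+ ZMod 2} (h' : Lin ρ' qf' B') (hS' : Cx ρ' x1 = ⊥) :
    ∃ (σ : A9 ≃* A9) (T : V' ≃ₗ[ZMod 2] V), (∀ g v, ρ (σ g) (T v) = T (ρ' g v)) ∧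
      (∀ v, qf (T v) = qf' v) ∧ ∀ v w, B (T v) (T w) = B' v w := by
  obtain ⟨c, T, hT, r, hB⟩ := h.coord hS
  obtain ⟨c', T', hT', r', hB'⟩ := h'.coord hS'
  let E := (LinearEquiv.ofBijective T' hT').symm.trans (LinearEquiv.ofBijective T hT)
  have hE : ∀ u, E (T' u) = T u := fun u => by
    simp only [E, LinearEquiv.trans_apply, LinearEquiv.ofBijective_symm_apply_apply,
      LinearEquiv.ofBijective_apply]
  have hEB : ∀ v w, B (E v) (E w) = B' v w := fun v w => by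
    obtain ⟨v, rfl⟩ := hT'.2 v
    obtain ⟨w, rfl⟩ := hT'.2 w
    rw [hE, hE, hB, hB']
  obtain ⟨σ, h1, h2⟩ : ∃ σ : A9 ≃* A9, (∀ i, Rep T (ρ (σ (gn i))) (Mx i + c' • 1)) ∧
      (σ (gn 0)).1.IsThreeCycle := by
    by_cases e : c' = c
    · exact ⟨MulEquiv.refl _, e ▸ r, gn_three 0⟩
    · refine ⟨tw, fun i => ((r i).add (Rep.scal T 1)).congr ?_ ?_, ?_⟩
      · rw [tw_gn, three_inv hS (gn_three i), one_smul]
      · rw [add_assoc, ← add_smul, (by decide : ∀ c d : ZMod 2, ¬ d = c → c + 1 = d) c c' e]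
      · rw [tw_gn]; exact (gn_three 0).inv
  have hg : ∀ g v, ρ (σ g) (E v) = E (ρ' g v) := fun g => by
    have hg : g ∈ Subgroup.closure (Set.range gn) := gn_closure ▸ Subgroup.mem_top g
    induction hg using Subgroup.closure_induction with
    | mem x hx =>
      obtain ⟨i, rfl⟩ := hx
      intro v
      obtain ⟨v, rfl⟩ := hT'.2 v
      rw [hE, h1, r', hE]
    | one => simp
    | mul x y _ _ hx hy => intro v; rw [map_mul, ρ_mul, hy, hx, ρ_mul]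
    | inv x _ hx =>
      intro v
      refine ρ_inj ρ (σ x) ?_
      rw [map_inv, ρ_inv', hx, ρ_inv']
  refine ⟨σ, E, hg, fun v => ?_, hEB⟩
  rw [h.q_eq (mem_Ux_three hS h2 _), hg, hEB, h'.q_three hS' 0]

end CL.ThU
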