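/- Uniqueness of the Thompson group: the conjugate `R` of `Q` with centre `ac`, the involution `w`. -/
import Cfsg.Agent.SPOR.ThU.QM

set_option autoImplicit false
set_option maxRecDepth 100000
set_option synthInstance.maxSize 2000

namespace CL.ThU

open CL.K CL.CE CL.LX CL.MSS Subgroup

variable {G : Type*} [Group G] {Q R : Subgroup G} {y : ℕ → G} {b : Bool}

theorem comm_of_odd {k w : G} (m : ℕ) (hk : k ^ (2 * m + 1) = 1) (h : Commute (k ^ 2) w) :
    Commute k w := by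
  have : k = (k ^ 2) ^ (m + 1) := by
    rw [← pow_mul, show 2 * (m + 1) = 2 * m + 1 + 1 from rfl, pow_succ, hk, one_mul]
  exact this ▸ h.pow_left _

theorem comm_sq {k w t : G} (h1 : k * t = t * k) (h2 : t * t = 1)
    (h : k * w * k⁻¹ = w ∨ k * w * k⁻¹ = w * t) : Commute (k ^ 2) w := by
  rcases h with h | h
  · exact (show Commute k w from mul_inv_eq_iff_eq_mul.1 h).pow_left 2
  · have h3 := mul_inv_eq_iff_eq_mul.1 h
    calc k ^ 2 * w = k * w * (t * k) := by
          rw [pow_two, mul_assoc k k, mul_assoc k w, ← mul_assoc w, ← h3]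
      _ = w * (t * (k * t)) * k := by rw [h3]; group
      _ = _ := by rw [h1, ← mul_assoc t, h2, one_mul, pow_two, mul_assoc]

theorem comm_of_three {s w r t : G} (hR : ES R t) (hw : w ∈ R) (hr : r ∈ R) (h1 : w * s = s * w)
    (h2 : s * t = t * s) (i : ℕ) (h3 : s ^ 3 * r * (s ^ 3)⁻¹ = r * (s ^ i * r * (s ^ i)⁻¹)) :
    w * r = r * w := by
  by_contra h
  have h4 := hR.conj_eq_of_not_comm hr hw (Ne.symm h)
  have h5 : ∀ n : ℕ, w * (s ^ n * r * (s ^ n)⁻¹) * w⁻¹ = s ^ n * r * (s ^ n)⁻¹ * t := fun n => by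
    have c1 := (show Commute w s from h1).pow_right n
    calc _ = s ^ n * (w * r * w⁻¹) * (s ^ n)⁻¹ := by
          rw [← mul_assoc, ← mul_assoc, c1.eq, mul_assoc _ _ w⁻¹, ← c1.inv_inv.eq]; group
      _ = _ := by
          rw [h4, mul_assoc _ _ t, ((show Commute s t from h2).pow_left n).inv_left.eq]; group
  have h6 := h5 3
  rw [h3, ← conj_mul, h4, h5, mul_assoc, mul_assoc r, mul_right_inj, mul_eq_right] at h6
  exact hR.z_ne h6

/-- the next letter on the way to `ac` -/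
def nx (v : ℕ) : ℕ := Nat.land (Nat.shiftRight (nat_lit 0x9800660400750084a00330000aa0083603050a008050605000000007a448a550705605080a006085a65000000007488800609600450500600764a003600006640a00405503007050000647600006655046070080960a0063a0000344a000066800770056008400900540065005500340508050608060a03558855668a6634000a200660400750084a003300008800a36030209008050605000000007a448a5507056050209006085a6500000000748880060a2004a0500600764a003600006620900405503007050000647700006455046070080a2090063a0000344a000066800770056008200a005400650055003405080506080609025a8655658a663a30) (Nat.mul 4 v)) 15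

/-- the way leads to `ac` -/
noncomputable def reach (n : ℕ) : ℕ → Bool :=
  Nat.rec (motive := fun _ => ℕ → Bool) (fun v => Nat.beq v 257)
    (fun _ ih v => force (act false (nx v) v) ih) n

theorem QS.isConj (h : QS Q y) {v : ℕ} (hv : v < 512) (h1 : y (16 + v) * y (16 + v) = 1)
    (h2 : y (16 + v) ≠ 1) (h3 : y (16 + v) ≠ y 272) : IsConj (y (16 + v)) (y 273) := by
  have h4 : ∀ n v, reach n v = true → v < 512 ∧ IsConj (y (16 + v)) (y 273) := fun n => by
    induction n with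
    | zero => intro v e; rw [Nat.eq_of_beq_eq_true e]; exact ⟨by norm_num, IsConj.refl _⟩
    | succ n ih =>
      intro v e
      have e1 : actW false [nx v] v = act false (nx v) v := force_eq _ _
      obtain ⟨h5, h6⟩ := ih _ ((force_eq _ _).symm.trans e)
      obtain ⟨h7, h8⟩ := h.acts0 [nx v] v (e1 ▸ h5)
      exact ⟨h7, (isConj_iff.2 ⟨_, e1 ▸ h8⟩).trans h6⟩
  rw [h.mul v hv v hv, ← h.one] at h1
  rcases forall_lt (p := fun v => qm v v = 0 → v = 0 ∨ v = 256 ∨ reach 8 v = true)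
    (by decide +kernel) v hv (h.inj _ (qm_lt _ hv) 0 (by norm_num) h1) with rfl | rfl | e
  exacts [absurd h.one h2, absurd rfl h3, (h4 _ _ e).2]

/-- the words for the elements of `U` -/
def uw (j : ℕ) : List ℕ := [[], [4], [5,4,6], [4,5,4,6], [5,5,4,6,6], [4,5,5,4,6,6],
  [5,4,6,5,5,4,6,6], [4,5,4,6,5,5,4,6,6]].getD j []

/-- the codes of `⟨a, c⟩` -/
def R4 : List ℕ := [0, 1, 256, 257]

/-- `R` is the conjugate of `Q` with centre `ac`. -/
structure QR (Q R : Subgroup G) (y : ℕ → G) : Prop extends QS Q y where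
  lx3 : LX R (y 273)
  z_mem : y 272 ∈ R
  big : 8 < Nat.card R
  inv6 : y 6 = (y 5)⁻¹
  ord5 : y 5 ^ 7 = 1

theorem QS.exists_QR [Finite G] (h : QS Q y) (h6 : y 6 = (y 5)⁻¹) (h5 : y 5 ^ 7 = 1) {g : G}
    (h1 : g * y 272 * g⁻¹ ∈ Q) (h2 : g * y 272 * g⁻¹ ≠ y 272) : ∃ R, QR Q R y := by
  obtain ⟨v, hv, e⟩ := (h.mem _).1 h1
  have h3 := h.es.conj g
  obtain ⟨k, hk⟩ := isConj_iff.1 ((isConj_iff.2 ⟨g, e.symm⟩).trans
    (h.isConj hv (e ▸ h3.z_sq) (e ▸ h3.z_ne) (e ▸ h2)))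
  have h4 : 8 < Nat.card Q := by rw [h.card_Q]; norm_num
  exact ⟨k •ᶜ Q, h, hk ▸ h.lx.conj k,
    h.lx.symm_of_card h4 (hk ▸ h.mem' (v := 257) (by norm_num)), (card_cj k Q).symm ▸ h4, h6, h5⟩

namespace QR

theorem c_eq (h : QR Q R y) : y 17 = y 272 * y 273 :=
  (h.mul 256 (by norm_num) 257 (by norm_num)).symm

theorem memR4 (h : QR Q R y) : ∀ r ∈ R4, y (16 + r) ∈ R := by
  simp only [R4, List.forall_mem_cons, List.not_mem_nil, false_imp_iff, implies_true, and_true]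
  exact ⟨h.toQS.one ▸ R.one_mem, h.c_eq ▸ R.mul_mem h.z_mem h.lx3.z_mem, h.z_mem, h.lx3.z_mem⟩

theorem nrm (h : QR Q R y) (W : List ℕ) (hW : Nat.beq (actW false W 257) 257 = true) {r : G}
    (hr : r ∈ R) : ev y W * r * (ev y W)⁻¹ ∈ R :=
  h.lx3.norm _ (mul_inv_eq_iff_eq_mul.1 (h.acts0.eq W 257 257 hW)) r hr

theorem nrm5 (h : QR Q R y) (n : ℕ) {r : G} (hr : r ∈ R) : y 5 ^ n * r * (y 5 ^ n)⁻¹ ∈ R := by
  have := mul_inv_eq_iff_eq_mul.1 (h.acts0.eq [5] 257 257 (by decide +kernel))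
  rw [ev_singleton] at this
  exact h.lx3.norm _ ((show Commute _ _ from this).pow_left n) r hr

theorem commB (h : QR Q R y) {q q' : G} (h1 : q ∈ Q) (h2 : q ∈ R) (h3 : q' ∈ Q) (h4 : q' ∈ R) :
    q * q' = q' * q := by
  by_contra e
  have := (h.es.comm_of_not h1 h3 e).symm.trans (h.lx3.comm_of_not h2 h4 e)
  exact absurd (h.inj 256 (by norm_num) 257 (by norm_num) (mul_left_cancel this)) (by norm_num)

theorem isE_of_mem (h : QR Q R y) {v : ℕ} (hv : v < 512) (hR : y (16 + v) ∈ R) : isE v = true := by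
  rcases forall_lt (p := fun v => isE v = true ∨ qm v 1 ≠ qm 1 v ∨
      ∃ W ∈ ([[5], [4,5], [4,6], [5,4,6,6]] : List (List ℕ)), actW false W v < 512 ∧ actW false W 257 = 257 ∧
        qm v (actW false W v) ≠ qm (actW false W v) v) (by decide +kernel) v hv with
    e | e | ⟨W, -, e1, e2, e⟩
  · exact e
  · exact absurd ((h.comm_iff hv (by norm_num)).1 (h.commB (h.mem' hv) hR (h.mem' (by norm_num))
      (h.memR4 1 (by decide)))) e
  · exact absurd ((h.comm_iff hv e1).1 (h.commB (h.mem' hv) hR (h.mem' e1)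
      ((h.acts0 W v e1).2 ▸ h.nrm W (by simp [e2]) hR))) e

theorem uw_act (h : QR Q R y) {j : ℕ} (hj : j < 8) {g : G} {p r : ℕ} (hp : p < 512)
    (e : g * y (16 + p) * g⁻¹ = y (16 + qm r p)) :
    actW false (uw j) (qm r p) < 512 ∧ ev y (uw j) * g * y (16 + p) * (ev y (uw j) * g)⁻¹ =
      y (16 + actW false (uw j) (qm r p)) := by
  have h1 := forall_lt (forall_lt (p := fun j => allLt (fun v => decide (actW false (uw j) v < 512))
    512 = true) (n := 8) (by decide +kernel) j hj) _ (qm_lt r hp)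
  exact ⟨h1, by rw [← (h.acts0 _ _ h1).2, ← e]; group⟩

theorem dec0 [Finite G] (h : QR Q R y) {g : G} (hg : g ∈ R) (hz : g * y 272 = y 272 * g)
    (hf : ∀ p ∈ [2,4,8], ∃ r ∈ R4, g * y (16 + p) * g⁻¹ = y (16 + qm r p)) :
    ∃ j < 8, ev y (uw j) * g ∈ Q := by
  obtain ⟨r2, h2, e2⟩ := hf 2 (by decide)
  obtain ⟨r4, h4, e4⟩ := hf 4 (by decide)
  obtain ⟨r8, h8, e8⟩ := hf 8 (by decide)
  obtain ⟨j, hj, h1⟩ := (show ∀ r2 ∈ R4, ∀ r4 ∈ R4, ∀ r8 ∈ R4, ∃ j < 8,
    ∀ e ∈ [(r8, 8), (r4, 4), (r2, 2), (0, 1), (0, 256)], actW false (uw j) (qm e.1 e.2) = e.2 ∨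
      (actW false (uw j) (qm e.1 e.2) = qm e.2 256 ∧ e.2 ≠ 256) by decide +kernel) r2 h2 r4 h4 r8 h8
  have h3 : ∀ r p, p < 512 → (r, p) ∈ [(r8, 8), (r4, 4), (r2, 2), (0, 1), (0, 256)] →
      g * y (16 + p) * g⁻¹ = y (16 + qm r p) →
      ev y (uw j) * g * y (16 + p) * (ev y (uw j) * g)⁻¹ = y (16 + p) ∨ (p ≠ 256 ∧
      ev y (uw j) * g * y (16 + p) * (ev y (uw j) * g)⁻¹ = y (16 + p) * y 272) := by
    intro r p hp hm e
    rw [(h.uw_act hj hp e).2, h.mul_z hp]
    exact (h1 _ hm).imp (fun e => by rw [e]) fun e => ⟨e.2, by rw [e.1]⟩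
  refine ⟨j, hj, h.St_eq.le (mem_St (mul_inv_eq_iff_eq_mul.1 ((h3 0 256 (by norm_num) (by simp)
    (mul_inv_eq_iff_eq_mul.2 hz)).resolve_right fun e => e.1 rfl)) ?_)⟩
  simp only [List.forall_mem_cons, List.not_mem_nil, false_imp_iff, implies_true, and_true]
  refine ⟨(h3 _ 8 (by norm_num) (by simp) e8).imp_right And.right,
    (h3 _ 4 (by norm_num) (by simp) e4).imp_right And.right,
    (h3 _ 2 (by norm_num) (by simp) e2).imp_right And.right,
    (h3 0 1 (by norm_num) (by simp) (mul_inv_eq_iff_eq_mul.2 ?_)).imp_right And.right⟩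
  exact (h.c_eq ▸ (show Commute g _ from hz).mul_right (h.lx3.z_comm g hg) : Commute g (y 17))

theorem exists_not_mem (h : QR Q R y) : ∃ g ∈ R, g * y 272 = y 272 * g ∧ g ∉ Q := by
  by_contra hc
  push Not at hc
  obtain ⟨g, hg, g', hg', h1, h2, h3⟩ := h.lx3.exists_not_comm_centralizer h.big h.z_mem
  exact h3 (h.commB (hc g hg h1.symm) hg (hc g' hg' h2.symm) hg')

theorem memE [Finite G] (h : QR Q R y) : ∀ v < 512, isE v = true → y (16 + v) ∈ R := by
  obtain ⟨v, hv, h1, h2⟩ : ∃ v < 512, y (16 + v) ∈ R ∧ v ∉ R4 := by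
    by_contra hc
    push Not at hc
    obtain ⟨g, hg, hz, hQ⟩ := h.exists_not_mem
    have h1 : ∀ p ∈ [2,4,8,32,64,128], ∃ r ∈ R4, g * y (16 + p) * g⁻¹ = y (16 + qm r p) := by
      intro p hp
      obtain ⟨h2, h3⟩ := (show ∀ p ∈ [2,4,8,32,64,128], p < 512 ∧
        Nat.beq (actW false [16 + p] 257) 257 = true by decide +kernel) p hp
      obtain ⟨r, hr, e⟩ := (h.mem _).1 (Q.mul_mem (h.norm g hz _ (h.mem' h2)) (Q.inv_mem (h.mem' h2)))
      have h4 := R.mul_mem hg (h.nrm _ h3 (R.inv_mem hg))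
      rw [ev_singleton, ← mul_assoc, ← mul_assoc, ← e] at h4
      exact ⟨r, hc r hr h4, by rw [← h.mul r hr p h2, e, inv_mul_cancel_right]⟩
    obtain ⟨j, hj, h2⟩ := h.dec0 hg hz fun p hp => h1 p (List.mem_append_left [32,64,128] hp)
    rcases (show ∀ j < 8, j = 0 ∨ ∃ p ∈ [32,64,128], p < 512 ∧ ∀ r ∈ R4,
      actW false (uw j) (qm r p) ≠ p ∧ actW false (uw j) (qm r p) ≠ qm p 256 by decide +kernel) j hj
      with rfl | ⟨p, hp, h3, h4⟩
    · exact hQ (one_mul g ▸ h2)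
    · obtain ⟨r, hr, e⟩ := h1 p (List.mem_append_right [2,4,8] hp)
      obtain ⟨h5, h6⟩ := h.uw_act hj h3 e
      rcases h.es.conj_cases (h.mem' h3) h2 with e' | e'
      · exact (h4 r hr).1 (h.inj _ h5 _ h3 (h6.symm.trans e'))
      · exact (h4 r hr).2 (h.inj _ h5 _ (qm_lt _ (by norm_num)) (h6.symm.trans (e'.trans (h.mul_z h3))))
  obtain ⟨i, -, r, hr, h3, h4, h5, h6⟩ := (forall_lt (p := fun v => isE v = true → v ∈ R4 ∨ ∃ i < (7 : ℕ),
    ∃ r ∈ R4, r < 512 ∧ actW false (List.replicate i 5) v < 512 ∧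
      Nat.beq (actW false (List.replicate i 5) 257) 257 = true ∧
      qm r (actW false (List.replicate i 5) v) = 2) (by decide +kernel) v hv
      (h.isE_of_mem hv h1)).resolve_left h2
  have h7 : y (16 + 2) ∈ R := by
    rw [← h6, ← h.mul r h3 _ h4, ← (h.acts0 _ _ h4).2]
    exact R.mul_mem (h.memR4 r hr) (h.nrm _ h5 h1)
  have h8 : ∀ i ∈ [1,2,4,8,256], i < 512 ∧ y (16 + i) ∈ R := by
    simp only [List.forall_mem_cons, List.not_mem_nil, false_imp_iff, implies_true, and_true]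
    exact ⟨⟨by norm_num, h.memR4 1 (by decide)⟩, ⟨by norm_num, h7⟩,
      ⟨by norm_num, h.acts0.eq [5] 2 4 (by decide +kernel) ▸ h.nrm _ (by decide +kernel) h7⟩,
      ⟨by norm_num, h.acts0.eq [5,5] 2 8 (by decide +kernel) ▸ h.nrm _ (by decide +kernel) h7⟩,
      by norm_num, h.z_mem⟩
  exact ind _ genE (h.memR4 0 (by decide)) fun i hi v hv _ ih =>
    h.mul i (h8 i hi).1 v hv ▸ R.mul_mem (h8 i hi).2 ih

theorem dec [Finite G] (h : QR Q R y) {g : G} (hg : g ∈ R) (hz : g * y 272 = y 272 * g) :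
    ∃ j < 8, ∃ v < 512, isE v = true ∧ ev y (uw j) * g = y (16 + v) := by
  have h1 : ∀ p ∈ [2,4,8], ∃ r ∈ [0, 257], g * y (16 + p) * g⁻¹ = y (16 + qm r p) := by
    intro p hp
    obtain ⟨h2, h3, h4, h5⟩ := (show ∀ p ∈ [2,4,8], p < 512 ∧ isE p = true ∧ qm 0 p = p ∧
      qm p 257 = qm 257 p by decide +kernel) p hp
    rcases h.lx3.conj_cases (h.memE p h2 h3) hg with e | e
    · exact ⟨0, by simp, by rw [e, h4]⟩
    · exact ⟨257, by simp, by rw [e, ← h5]; exact h.mul p h2 257 (by norm_num)⟩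
  obtain ⟨j, hj, h2⟩ := h.dec0 hg hz fun p hp =>
    (h1 p hp).imp fun r hr => ⟨(show ∀ r ∈ [0, 257], r ∈ R4 by decide) r hr.1, hr.2⟩
  obtain ⟨v, hv, e⟩ := (h.mem _).1 h2
  refine ⟨j, hj, v, hv, forall_lt (p := fun v => (∀ p ∈ ([1,2,4,8] : List ℕ), qm v p = qm p v) →
    isE v = true) (by decide +kernel) v hv fun p hp => ?_, e.symm⟩
  have h3 := (show ∀ p ∈ [1,2,4,8], p < 512 by decide) p hp
  obtain ⟨r, hr, e1⟩ : ∃ r ∈ [0, 257], g * y (16 + p) * g⁻¹ = y (16 + qm r p) := by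
    rcases List.mem_cons.1 hp with rfl | hp
    · exact ⟨0, by simp, mul_inv_eq_iff_eq_mul.2
        (h.c_eq ▸ (show Commute g _ from hz).mul_right (h.lx3.z_comm g hg) : Commute g (y 17))⟩
    · exact h1 p hp
  obtain ⟨h5, h6⟩ := h.uw_act hj h3 e1
  refine (h.comm_iff hv h3).1 (mul_inv_eq_iff_eq_mul.1 ((h.es.conj_cases (h.mem' h3)
    (h.mem' hv)).resolve_right fun e' => ?_))
  rw [e, h6, h.mul_z h3] at e'
  exact (show ∀ j < 8, ∀ p ∈ [1,2,4,8], ∀ r ∈ [0, 257], actW false (uw j) (qm r p) ≠ qm p 256 by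
    decide +kernel) j hj p hp r hr (h.inj _ h5 _ (qm_lt _ (by norm_num)) e')

theorem mem4 [Finite G] (h : QR Q R y) : y 4 ∈ R := by
  obtain ⟨g, hg, hz, hQ⟩ := h.exists_not_mem
  obtain ⟨j, hj, v, hv, h1, e⟩ := h.dec hg hz
  rcases (show ∀ j < 8, j = 0 ∨ ∃ i < 7, same false [4]
    (wpow [5] i ++ uw j ++ wpow [6] i) = true by decide +kernel) j hj with rfl | ⟨i, -, h2⟩
  · exact absurd (((one_mul g).symm.trans e).symm ▸ h.mem' hv) hQ
  have h3 := h.nrm5 i ((R.mul_mem_cancel_right hg).1 (e ▸ h.memE v hv h1))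
  have h4 := h.acts0.eq_or h.toQS h2
  rw [ev_append, ev_append, ev_wpow, ev_wpow, ev_singleton, ev_singleton, ev_singleton, h.inv6,
    inv_pow] at h4
  rcases h4 with e | e <;> rw [e]
  exacts [h3, R.mul_mem h3 h.z_mem]

theorem s_comm (h : QR Q R y) {v : ℕ}
    (hv : (Nat.blt v 512 && Nat.beq (actW false [5] v) v) = true) :
    y 5 * y (16 + v) = y (16 + v) * y 5 :=
  mul_inv_eq_iff_eq_mul.1 (ev_singleton y 5 ▸ h.acts0.eq [5] v v hv)

theorem exists_w (h : QR Q R y) :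
    ∃ w ∈ R, w * w = 1 ∧ w * y 5 = y 5 * w ∧ w * y 272 * w⁻¹ = y 272 * y 273 := by
  have sz : Commute (y 5) (y 272) := h.s_comm (v := 256) (by decide +kernel)
  have s3 : Commute (y 5) (y 273) := h.s_comm (v := 257) (by decide +kernel)
  obtain ⟨w, hw, h1⟩ := h.lx3.exists_not_comm h.z_mem h.es.z_ne fun e =>
    absurd (h.inj 256 (by norm_num) 257 (by norm_num) e) (by norm_num)
  have h2 : ∀ n : ℕ, (w * y 5) ^ n * (y 5 ^ n)⁻¹ ∈ R := fun n => by
    induction n with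
    | zero => simp
    | succ n ih =>
      have := R.mul_mem hw (h.nrm5 1 ih)
      convert this using 1
      rw [pow_succ', pow_succ']; group
  have h3 := h2 7
  rw [h.ord5, inv_one, mul_one] at h3
  have h4 : Commute (y 5) ((w * y 5) ^ 7) := comm_of_odd 3 h.ord5 (comm_sq s3 h.lx3.z_sq (by
    have : y 5 * (w * y 5) ^ 7 * (y 5)⁻¹ = w⁻¹ * (w * y 5) ^ 7 * w⁻¹⁻¹ := by
      calc _ = w⁻¹ * (w * y 5 * (w * y 5) ^ 7) * (y 5)⁻¹ := by simp [mul_assoc]
        _ = _ := by rw [← pow_succ', pow_succ]; simp [mul_assoc]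
    exact this ▸ h.lx3.conj_cases h3 (R.inv_mem hw)))
  have h5 : y 272 * (w * y 5) ^ 7 ≠ (w * y 5) ^ 7 * y 272 := fun e => by
    have h6 : Commute ((w * y 5) ^ 2) (y 272) := comm_sq
      ((show Commute w _ from h.lx3.z_comm w hw).mul_left s3) h.lx3.z_sq (Or.inr (by
        rw [← h.lx3.conj_eq_of_not_comm h.z_mem hw h1, mul_assoc w, sz.eq]; group))
    have h7 := (show Commute _ _ from e.symm).mul_left (h6.pow_left 3).inv_left
    rw [← pow_mul, show 7 = 1 + 2 * 3 from rfl, pow_add, mul_inv_cancel_right, pow_one] at h7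
    exact h1 (by simpa using (h7.mul_left sz.inv_left).eq.symm)
  generalize (w * y 5) ^ 7 = W at h3 h4 h5
  have h6 := h.lx3.conj_eq_of_not_comm h.z_mem h3 h5
  rcases h.lx3.sq W h3 with e | e
  · exact ⟨W, h3, e, h4.eq.symm, h6⟩
  · refine ⟨W * y 272, R.mul_mem h3 h.z_mem, ?_, (h4.mul_right sz).eq.symm, by rw [← h6]; group⟩
    rw [h.lx3.mul_sq_of_not_comm h3 h.z_mem (Ne.symm h5), e, h.es.z_sq, mul_one, h.lx3.z_sq]

end QR

/-- the letter `1` is the involution `w` -/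
structure QW (Q R : Subgroup G) (y : ℕ → G) : Prop extends QR Q R y where
  w_mem : y 1 ∈ R
  w_sq : y 1 * y 1 = 1
  w_s : y 1 * y 5 = y 5 * y 1
  acts1 : Acts true y

theorem QR.exists_QW [Finite G] (h : QR Q R y) : ∃ w, QW Q R (Function.update y 1 w) := by
  obtain ⟨w, hw, h1, h2, h3⟩ := h.exists_w
  have e : ∀ l, l ≠ 1 → Function.update y 1 w l = y l := fun l hl => Function.update_of_ne hl _ _
  have e' : ∀ v, Function.update y 1 w (16 + v) = y (16 + v) := fun v => e _ (by omega)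
  have h4 : QS Q (Function.update y 1 w) := by
    refine ⟨?_, ?_, ?_, ?_, ?_, fun l h1 h2 => ?_, ?_⟩
    all_goals simp only [e', e 272 (by norm_num)]
    exacts [h.es, h.norm, h.mul, h.mem, h.inj, (e l h2).symm ▸ h.tab l h1 h2, h.card]
  have s3 : Commute (y 5) (y 273) := h.s_comm (v := 257) (by decide +kernel)
  have h5 : Commute w (y (16 + 2)) := comm_of_three h.lx3.toES hw (h.memE 2 (by norm_num) rfl) h2
    s3 1 (by
      have := h.acts0.eq (wpow [5] 3) 2 (qm 2 4) (by decide +kernel)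
      rwa [← h.mul 2 (by norm_num) 4 (by norm_num), ← h.acts0.eq (wpow [5] 1) 2 4 (by decide +kernel),
        ev_wpow, ev_wpow, ev_singleton] at this)
  have h6 : ∀ n v, (Nat.blt v 512 && Nat.beq (actW false (wpow [5] n) 2) v) = true →
      w * y (16 + v) * w⁻¹ = y (16 + v) := fun n v hv => by
    rw [← h.acts0.eq _ 2 v hv, ev_wpow, ev_singleton, mul_inv_eq_iff_eq_mul]
    have c1 := (show Commute w _ from h2).pow_right n
    exact (c1.mul_right h5).mul_right c1.inv_right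
  refine ⟨w, ⟨h4, ?_, ?_, h.big, ?_, ?_⟩, ?_, ?_, ?_, h4.acts fun _ => ?_⟩
  all_goals simp only [e', e 272 (by norm_num), e 273 (by norm_num), e 5 (by norm_num),
    e 6 (by norm_num), Function.update_self]
  exacts [h.lx3, h.z_mem, h.inv6, h.ord5, hw, h1, h2, act_of_gens (κ := fun v => y (16 + v)) h.mul _
    genE (by
      simp only [List.forall_mem_cons, List.not_mem_nil, false_imp_iff, implies_true, and_true]
      refine ⟨?_, h6 0 2 (by decide +kernel), h6 1 4 (by decide +kernel),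
        h6 2 8 (by decide +kernel), h3.trans h.c_eq.symm⟩
      show w * y 17 * w⁻¹ = y 272
      rw [h.c_eq, ← conj_mul, h3, h.lx3.z_comm w hw, mul_inv_cancel_right, mul_assoc, h.lx3.z_sq,
        mul_one]) (by decide +kernel)]

/-- The lift of `u` is a square root of `ac`. -/
theorem QW.u_sq [Finite G] (h : QW Q R y) (hu : y 10 = (y 9)⁻¹) : y 9 * y 9 = y 273 := by
  refine (show _ ∨ _ by simpa [ev] using (h.acts0.eq_or h.toQS (W := [9, 9]) (W' := [273])
    (by decide +kernel))).resolve_right fun e => ?_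
  have h1 : ev y [9,1,10,1] ∈ R := by
    simpa [ev, hu, mul_assoc] using R.mul_mem (h.nrm [9] (by decide +kernel) h.w_mem) h.w_mem
  obtain ⟨j, hj, v, hv, h2, h3⟩ := h.dec h1 (mul_inv_eq_iff_eq_mul.1
    (h.acts1.eq [9,1,10,1] 256 256 (by decide +kernel)))
  rw [← ev_append, ← ev_singleton y (16 + v)] at h3
  have h4 : ev y ((16 + v) :: uw j ++ 9 :: (16 + v) :: uw j ++ [10]) = ev y [273] := by
    have h5 : y (16 + v) * y (16 + v) = 1 := by
      rw [h.mul v hv v hv, forall_lt (p := fun v => isE v = true → qm v v = 0)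
        (by decide +kernel) v hv h2, h.toQS.one]
    have h6 : y (16 + v) * ev y (uw j) = (ev y [9,1,10,1])⁻¹ := by
      rw [eq_inv_iff_mul_eq_one, mul_assoc, ← ev_append, h3, ev_singleton, h5]
    have h7 := h.acts1.eq [1] 1 256 (by decide +kernel)
    have h8 : y 273 * y 272 = y 17 := h.mul 257 (by norm_num) 256 (by norm_num)
    have h9 : y 272 * y 17 = y 273 := h.mul 256 (by norm_num) 1 (by norm_num)
    have h10 : y 17 * y 17 = 1 := (h.mul 1 (by norm_num) 1 (by norm_num)).trans h.toQS.one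
    rw [h8] at e
    rw [ev_append, ev_append, ev_cons, ev_cons, ev_cons, h6]
    simp only [ev, List.map_cons, List.map_nil, List.prod_cons, List.prod_nil, mul_one, hu] at h7 ⊢
    calc _ = (y 1)⁻¹ * (y 9 * (y 1 * y 1)⁻¹ * y 9) * (y 1)⁻¹ * (y 9 * y 9)⁻¹ := by group
      _ = y 1 * y 17 * (y 1)⁻¹ * y 17 := by
        rw [h.w_sq, inv_one, mul_one, e, inv_eq_of_mul_eq_one_right h10,
          inv_eq_of_mul_eq_one_right h.w_sq]
      _ = _ := by rw [← h9, ← h7]
  rcases forall_lt (forall_lt (p := fun j => allLt (fun v => decide (isE v = true →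
    (∃ p ∈ ([2,4,8] : List ℕ), dif true (uw j ++ [9,1,10,1]) [16 + v] p = true) ∨
      dif false ((16 + v) :: uw j ++ 9 :: (16 + v) :: uw j ++ [10]) [273] 16 = true)) 512 = true)
      (n := 8) (by decide +kernel) j hj) v hv h2 with ⟨p, -, h5⟩ | h5
  exacts [h.acts1.ne h.toQS h5 h3, h.acts0.ne h.toQS h5 h4]

end CL.ThU
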